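import Groth.Agent.Et14.RepSets
import Groth.Agent.Desc19b.EffAffine
import Groth.Agent.Et18.Descent

/-!
# The descent datum of a locally represented sheaf of sets
-/

set_option autoImplicit false
set_option backward.isDefEq.respectTransparency false
set_option backward.isDefEq.respectTransparency.types false

universe u

open CategoryTheory CategoryTheory.Limits AlgebraicGeometry Opposite

namespace Groth.Agent.Et14

variable {X : Scheme.{u}}

/-- Finite etale local models of a sheaf of sets. -/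
structure LocRep (F : EtDesc.Sh X) where
  ι : Type u
  U : ι → X.Etale
  W : ι → X.Etale
  p : ∀ i, W i ⟶ U i
  ω : ∀ i, F.obj.obj (op (W i))
  covers : EtCoh.Covers U
  finite : ∀ i, IsFinite (p i).left
  spec : ∀ i (T : X.Etale) (v : T ⟶ U i) (s : F.obj.obj (op T)),
    ∃! k : T ⟶ W i, k ≫ p i = v ∧ F.obj.map k.op (ω i) = s

variable {F : EtDesc.Sh X} (L : LocRep F)

theorem LocRep.hom_ext {i : L.ι} {T : X.Etale} {k k' : T ⟶ L.W i} (hp : k ≫ L.p i = k' ≫ L.p i)
    (hω : F.obj.map k.op (L.ω i) = F.obj.map k'.op (L.ω i)) : k = k' :=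
  (L.spec i T (k' ≫ L.p i) (F.obj.map k'.op (L.ω i))).unique ⟨hp, hω⟩ ⟨rfl, rfl⟩

/-- `W i ×_X U j`. -/
noncomputable def P (i j : L.ι) : X.Etale :=
  Scheme.Etale.mk (pullback.fst (L.W i).hom (L.U j).hom ≫ (L.W i).hom)

noncomputable def pa (i j : L.ι) : P L i j ⟶ L.W i :=
  MorphismProperty.Over.homMk (pullback.fst (L.W i).hom (L.U j).hom) rfl

noncomputable def pb (i j : L.ι) : P L i j ⟶ L.U j :=
  MorphismProperty.Over.homMk (pullback.snd (L.W i).hom (L.U j).hom) pullback.condition.symm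

noncomputable def mkP {i j : L.ι} {T : X.Etale} (a : T ⟶ L.W i) (b : T ⟶ L.U j) : T ⟶ P L i j :=
  MorphismProperty.Over.homMk (pullback.lift a.left b.left
    ((MorphismProperty.Over.w a).trans (MorphismProperty.Over.w b).symm))
    ((pullback.lift_fst_assoc _ _ _ _).trans (MorphismProperty.Over.w a))

theorem mkP_pa {i j : L.ι} {T : X.Etale} (a : T ⟶ L.W i) (b : T ⟶ L.U j) : mkP L a b ≫ pa L i j = a :=
  MorphismProperty.Over.Hom.ext (pullback.lift_fst _ _ _)

theorem mkP_pb {i j : L.ι} {T : X.Etale} (a : T ⟶ L.W i) (b : T ⟶ L.U j) : mkP L a b ≫ pb L i j = b :=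
  MorphismProperty.Over.Hom.ext (pullback.lift_snd _ _ _)

/-- The transition morphism `W i ×_X U j ⟶ W j`. -/
noncomputable def τ (i j : L.ι) : P L i j ⟶ L.W j :=
  (L.spec j (P L i j) (pb L i j) (F.obj.map (pa L i j).op (L.ω i))).exists.choose

theorem τ_p (i j : L.ι) : τ L i j ≫ L.p j = pb L i j :=
  (L.spec j (P L i j) (pb L i j) (F.obj.map (pa L i j).op (L.ω i))).exists.choose_spec.1

theorem τ_ω (i j : L.ι) : F.obj.map (τ L i j).op (L.ω j) = F.obj.map (pa L i j).op (L.ω i) :=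
  (L.spec j (P L i j) (pb L i j) (F.obj.map (pa L i j).op (L.ω i))).exists.choose_spec.2

theorem map_comp' {T T' T'' : X.Etale} (a : T ⟶ T') (b : T' ⟶ T'') (s : F.obj.obj (op T'')) :
    F.obj.map (a ≫ b).op s = F.obj.map a.op (F.obj.map b.op s) :=
  Functor.map_comp_apply F.obj b.op a.op s

theorem mkP_τ_p {i j : L.ι} {T : X.Etale} (a : T ⟶ L.W i) (b : T ⟶ L.U j) :
    (mkP L a b ≫ τ L i j) ≫ L.p j = b := by
  rw [Category.assoc, τ_p, mkP_pb]

theorem mkP_τ_ω {i j : L.ι} {T : X.Etale} (a : T ⟶ L.W i) (b : T ⟶ L.U j) :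
    F.obj.map (mkP L a b ≫ τ L i j).op (L.ω j) = F.obj.map a.op (L.ω i) := by
  rw [map_comp', τ_ω, ← map_comp', mkP_pa]

/-- Gluing of points. -/
noncomputable def g {T : Scheme.{u}} {i j : L.ι} (w : T ⟶ (L.W i).left) (x : T ⟶ (L.U j).left)
    (h : w ≫ (L.W i).hom = x ≫ (L.U j).hom) : T ⟶ (L.W j).left :=
  pullback.lift w x h ≫ (τ L i j).left

theorem g_p {T : Scheme.{u}} {i j : L.ι} (w : T ⟶ (L.W i).left) (x : T ⟶ (L.U j).left)
    (h : w ≫ (L.W i).hom = x ≫ (L.U j).hom) : g L w x h ≫ (L.p j).left = x := by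
  rw [g, Category.assoc, show (τ L i j).left ≫ (L.p j).left = (pb L i j).left from congrArg (·.left) (τ_p L i j)]
  exact pullback.lift_snd _ _ _

theorem g_hom {T : Scheme.{u}} {i j : L.ι} (w : T ⟶ (L.W i).left) (x : T ⟶ (L.U j).left)
    (h : w ≫ (L.W i).hom = x ≫ (L.U j).hom) : g L w x h ≫ (L.W j).hom = x ≫ (L.U j).hom := by
  rw [← MorphismProperty.Over.w (L.p j), ← Category.assoc, g_p]

theorem g_natural {T T' : Scheme.{u}} (c : T' ⟶ T) {i j : L.ι} (w : T ⟶ (L.W i).left) (x : T ⟶ (L.U j).left)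
    (h : w ≫ (L.W i).hom = x ≫ (L.U j).hom) (w' : T' ⟶ (L.W i).left) (x' : T' ⟶ (L.U j).left)
    (h' : w' ≫ (L.W i).hom = x' ≫ (L.U j).hom) (hw : w' = c ≫ w) (hx : x' = c ≫ x) :
    g L w' x' h' = c ≫ g L w x h := by
  subst hw hx
  rw [g, g, ← Category.assoc]
  congr 1
  apply pullback.hom_ext <;> simp

theorem g_self {T : Scheme.{u}} {i : L.ι} (w : T ⟶ (L.W i).left) (x : T ⟶ (L.U i).left)
    (hx : w ≫ (L.p i).left = x) (h : w ≫ (L.W i).hom = x ≫ (L.U i).hom) : g L w x h = w := by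
  have e : mkP L (𝟙 _) (L.p i) ≫ τ L i i = 𝟙 _ :=
    L.hom_ext (by rw [mkP_τ_p, Category.id_comp]) (mkP_τ_ω L _ _)
  have e' : (mkP L (𝟙 _) (L.p i)).left ≫ (τ L i i).left = 𝟙 _ := congrArg (·.left) e
  have : pullback.lift w x h = w ≫ (mkP L (𝟙 _) (L.p i)).left := by
    refine pullback.hom_ext ?_ ?_
    · rw [pullback.lift_fst, Category.assoc]
      exact ((congrArg (w ≫ ·) (pullback.lift_fst _ _ _)).trans (Category.comp_id w)).symm
    · rw [pullback.lift_snd, Category.assoc]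
      exact ((congrArg (w ≫ ·) (pullback.lift_snd _ _ _)).trans hx).symm
  rw [g, this, Category.assoc, e', Category.comp_id]

theorem g_comp {T : Scheme.{u}} {i j k : L.ι} (w : T ⟶ (L.W i).left) (x : T ⟶ (L.U j).left)
    (y : T ⟶ (L.U k).left) (h : w ≫ (L.W i).hom = x ≫ (L.U j).hom) (h' : w ≫ (L.W i).hom = y ≫ (L.U k).hom)
    (h'' : g L w x h ≫ (L.W j).hom = y ≫ (L.U k).hom) : g L (g L w x h) y h'' = g L w y h' := by
  let Q : X.Etale := Scheme.Etale.mk (pullback.fst (P L i j).hom (L.U k).hom ≫ (P L i j).hom)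
  let q₁ : Q ⟶ P L i j := MorphismProperty.Over.homMk (pullback.fst (P L i j).hom (L.U k).hom) rfl
  let q₂ : Q ⟶ L.U k := MorphismProperty.Over.homMk (pullback.snd (P L i j).hom (L.U k).hom) pullback.condition.symm
  have e : mkP L (q₁ ≫ τ L i j) q₂ ≫ τ L j k = mkP L (q₁ ≫ pa L i j) q₂ ≫ τ L i k := by
    refine L.hom_ext (by rw [mkP_τ_p, mkP_τ_p]) ?_
    rw [mkP_τ_ω, mkP_τ_ω, map_comp', map_comp', τ_ω]
  have hl : pullback.lift w x h ≫ (P L i j).hom = y ≫ (L.U k).hom :=
    (pullback.lift_fst_assoc _ _ _ _).trans h'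
  let l : T ⟶ Q.left := pullback.lift (pullback.lift w x h) y hl
  have hl1 : l ≫ q₁.left = pullback.lift w x h := pullback.lift_fst _ _ _
  have hl2 : l ≫ q₂.left = y := pullback.lift_snd _ _ _
  have e1 : l ≫ (mkP L (q₁ ≫ τ L i j) q₂).left = pullback.lift (g L w x h) y h'' := by
    refine pullback.hom_ext ?_ ?_
    · rw [pullback.lift_fst, Category.assoc]
      refine (congrArg (l ≫ ·) (pullback.lift_fst _ _ _)).trans ?_
      show l ≫ q₁.left ≫ (τ L i j).left = g L w x h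
      rw [← Category.assoc, hl1, g]
    · rw [pullback.lift_snd, Category.assoc]
      exact (congrArg (l ≫ ·) (pullback.lift_snd _ _ _)).trans hl2
  have e2 : l ≫ (mkP L (q₁ ≫ pa L i j) q₂).left = pullback.lift w y h' := by
    refine pullback.hom_ext ?_ ?_
    · rw [pullback.lift_fst, Category.assoc]
      refine (congrArg (l ≫ ·) (pullback.lift_fst _ _ _)).trans ?_
      show l ≫ q₁.left ≫ pullback.fst (L.W i).hom (L.U j).hom = w
      rw [← Category.assoc, hl1, pullback.lift_fst]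
    · rw [pullback.lift_snd, Category.assoc]
      exact (congrArg (l ≫ ·) (pullback.lift_snd _ _ _)).trans hl2
  have e' : (mkP L (q₁ ≫ τ L i j) q₂).left ≫ (τ L j k).left =
      (mkP L (q₁ ≫ pa L i j) q₂).left ≫ (τ L i k).left := congrArg (·.left) e
  show pullback.lift (g L w x h) y h'' ≫ (τ L j k).left = pullback.lift w y h' ≫ (τ L i k).left
  rw [← e1, ← e2, Category.assoc, Category.assoc, e']

abbrev fam (i : L.ι) : (L.U i).left ⟶ X := (L.U i).hom

theorem cond {T : Scheme.{u}} {i j : L.ι} {x : T ⟶ (L.U i).left} {y : T ⟶ (L.U j).left}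
    (h : x ≫ fam L i = y ≫ fam L j) (v : Desc.Lifts (Over.mk (L.p i).left) x) :
    v.1 ≫ (L.W i).hom = y ≫ (L.U j).hom := by
  rw [← MorphismProperty.Over.w (L.p i), ← Category.assoc]
  exact (congrArg (· ≫ (L.U i).hom) v.2).trans h

/-- The descent datum. -/
noncomputable def datum : Desc.SchDDFam (fam L) where
  obj i := Over.mk (L.p i).left
  φ T i j x y h :=
    { toFun := fun v => ⟨g L v.1 y (cond L h v), g_p L _ _ _⟩
      invFun := fun v => ⟨g L v.1 x (cond L h.symm v), g_p L _ _ _⟩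
      left_inv := fun v => Subtype.ext (by
        show g L (g L v.1 y _) x _ = v.1
        rw [g_comp L v.1 y x _ (cond L (rfl : x ≫ fam L i = x ≫ fam L i) v)]
        exact g_self L _ _ v.2 _)
      right_inv := fun v => Subtype.ext (by
        show g L (g L v.1 x _) y _ = v.1
        rw [g_comp L v.1 x y _ (cond L (rfl : y ≫ fam L j = y ≫ fam L j) v)]
        exact g_self L _ _ v.2 _) }
  φ_natural T T' c i j x₀ x₁ h y₀ y₁ hy₀ hy₁ h' v v' hv' := g_natural L c _ _ _ _ _ _ hv' hy₁.symm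
  φ_self T i x v := Subtype.ext (g_self L _ _ v.2 _)
  φ_comp T i j k x₀ x₁ x₂ h₀₁ h₁₂ v := Subtype.ext (g_comp L _ _ _ _ _ _)

/-- The descended scheme. -/
theorem exists_descended : ∃ (A : X.Etale) (_ : IsFinite A.hom) (π : ∀ i, L.W i ⟶ A),
    (∀ (T : Scheme.{u}) (i : L.ι) (k : T ⟶ A.left) (v : T ⟶ (L.U i).left),
      v ≫ (L.U i).hom = k ≫ A.hom → ∃ w : T ⟶ (L.W i).left, w ≫ (L.p i).left = v ∧ w ≫ (π i).left = k) ∧
    (∀ (T : Scheme.{u}) (i : L.ι) (w w' : T ⟶ (L.W i).left),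
      w ≫ (L.p i).left = w' ≫ (L.p i).left → w ≫ (π i).left = w' ≫ (π i).left → w = w') ∧
    (∀ (T : Scheme.{u}) (i j : L.ι) (w : T ⟶ (L.W i).left) (x : T ⟶ (L.U j).left)
      (h : w ≫ (L.W i).hom = x ≫ (L.U j).hom), g L w x h ≫ (π j).left = w ≫ (π i).left) := by
  classical
  have hf : Presieve.ofArrows (fun i => (L.U i).left) (fam L) ∈ Scheme.fpqcPrecoverage X := by
    refine Scheme.fppfPrecoverage_le_fpqcPrecoverage _ ((Scheme.ofArrows_mem_precoverage_iff _).2 ⟨fun x => ?_, fun i => ⟨?_, ?_⟩⟩)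
    · obtain ⟨i, y, hy⟩ := L.covers x
      exact ⟨i, y, hy⟩
    · exact inferInstanceAs (Flat (L.U i).hom)
    · exact inferInstanceAs (LocallyOfFinitePresentation (L.U i).hom)
  obtain ⟨A₀, ⟨e⟩⟩ := Desc19b.isEffective_of_isAffineHom hf (datum L) fun i =>
    haveI := L.finite i
    inferInstanceAs (IsAffineHom (L.p i).left)
  let σ : ∀ i, pullback (L.U i).hom A₀.hom ≅ (L.W i).left := fun i =>
    { hom := (e.hom.hom i).left
      inv := (e.inv.hom i).left
      hom_inv_id := congrArg (fun a => (a.hom i).left) e.hom_inv_id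
      inv_hom_id := congrArg (fun a => (a.hom i).left) e.inv_hom_id }
  have hσ : ∀ i, (σ i).hom ≫ (L.p i).left = pullback.fst (L.U i).hom A₀.hom := fun i => Over.w (e.hom.hom i)
  have hσ' : ∀ i, (σ i).inv ≫ pullback.fst (L.U i).hom A₀.hom = (L.p i).left := fun i => by
    rw [Iso.inv_comp_eq, hσ]
  have hloc : ∀ (Q : MorphismProperty Scheme.{u}) [IsZariskiLocalAtTarget Q]
      [Q.DescendsAlong (@Surjective ⊓ @Flat ⊓ @LocallyOfFinitePresentation)] [Q.RespectsIso],
      (∀ i, Q (L.p i).left) → Q A₀.hom := by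
    intro Q _ _ _ hQ
    refine IsZariskiLocalAtTarget.of_iSup_eq_top (fun i => (⟨Set.range (L.U i).hom.base,
      (L.U i).hom.isOpenMap.isOpen_range⟩ : X.Opens)) ?_ fun i => ?_
    · rw [eq_top_iff]
      intro x _
      obtain ⟨i, y, hy⟩ := L.covers x
      exact TopologicalSpace.Opens.mem_iSup.2 ⟨i, y, hy⟩
    · let O : X.Opens := ⟨Set.range (L.U i).hom.base, (L.U i).hom.isOpenMap.isOpen_range⟩
      let c : (L.U i).left ⟶ O.toScheme := IsOpenImmersion.lift O.ι (L.U i).hom (by rw [Scheme.Opens.range_ι]; rfl)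
      have hc : c ≫ O.ι = (L.U i).hom := IsOpenImmersion.lift_fac _ _ _
      haveI : Etale (c ≫ O.ι) := by rw [hc]; exact (L.U i).prop
      haveI : Etale c := Etale.of_comp c O.ι
      haveI : Surjective c := ⟨fun z => by
        obtain ⟨y, hy⟩ := (show O.ι z ∈ Set.range (L.U i).hom.base from z.2)
        refine ⟨y, O.ι.isOpenEmbedding.injective ?_⟩
        rw [← Scheme.Hom.comp_apply, hc]
        exact hy⟩
      let sq := isPullback_morphismRestrict A₀.hom O
      have hO : IsPullback (pullback.lift (f := A₀.hom) (g := O.ι) (pullback.snd (L.U i).hom A₀.hom)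
          (pullback.fst (L.U i).hom A₀.hom ≫ c) (by rw [Category.assoc, hc, pullback.condition]) ≫
            sq.flip.isoPullback.inv)
          (pullback.fst (L.U i).hom A₀.hom) (A₀.hom ∣_ O) c := by
        refine IsPullback.of_right (h₁₂ := (A₀.hom ⁻¹ᵁ O).ι) (v₁₃ := A₀.hom) (h₂₂ := O.ι) ?_ ?_ sq.flip
        · have e1 : ∀ (hh : pullback.snd (L.U i).hom A₀.hom ≫ A₀.hom = (pullback.fst (L.U i).hom A₀.hom ≫ c) ≫ O.ι),
              (pullback.lift (f := A₀.hom) (g := O.ι) (pullback.snd (L.U i).hom A₀.hom)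
                (pullback.fst (L.U i).hom A₀.hom ≫ c) hh ≫ sq.flip.isoPullback.inv) ≫ (A₀.hom ⁻¹ᵁ O).ι =
              pullback.snd (L.U i).hom A₀.hom := fun hh => by
            rw [Category.assoc, IsPullback.isoPullback_inv_fst, pullback.lift_fst]
          have := (IsPullback.of_hasPullback (L.U i).hom A₀.hom).flip
          exact Eq.mpr (congrArg₂ (fun a b => IsPullback a (pullback.fst (L.U i).hom A₀.hom) A₀.hom b) (e1 _) hc) this
        · rw [Category.assoc, IsPullback.isoPullback_inv_snd, pullback.lift_snd]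
      refine MorphismProperty.of_isPullback_of_descendsAlong
        (Q := @Surjective ⊓ @Flat ⊓ @LocallyOfFinitePresentation) hO.flip ⟨⟨inferInstance, inferInstance⟩, inferInstance⟩ ?_
      haveI : IsIso (σ i).hom := (σ i).isIso_hom
      rw [← hσ]
      exact (MorphismProperty.cancel_left_of_respectsIso Q _ _).2 (hQ i)
  haveI := Et18.descends_isFinite.{u}
  have hfin : IsFinite A₀.hom := hloc @IsFinite L.finite
  have het : Etale A₀.hom := hloc @Etale fun i => by
    haveI : Etale ((L.p i).left ≫ (L.U i).hom) := by rw [MorphismProperty.Over.w]; exact (L.W i).prop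
    haveI : Etale (L.U i).hom := (L.U i).prop
    exact Etale.of_comp _ (L.U i).hom
  haveI := het
  let π : ∀ i, L.W i ⟶ Scheme.Etale.mk A₀.hom := fun i =>
    MorphismProperty.Over.homMk ((σ i).inv ≫ pullback.snd (L.U i).hom A₀.hom) (by
      show ((σ i).inv ≫ pullback.snd (L.U i).hom A₀.hom) ≫ A₀.hom = (L.W i).hom
      rw [Category.assoc, ← pullback.condition, reassoc_of% hσ' i]
      exact MorphismProperty.Over.w (L.p i))
  refine ⟨Scheme.Etale.mk A₀.hom, hfin, π, fun T i k v h => ?_, fun T i w w' hp hπ => ?_, fun T i j w x h => ?_⟩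
  · refine ⟨pullback.lift v k h ≫ (σ i).hom, ?_, ?_⟩
    · exact ((Category.assoc _ _ _).trans (congrArg (_ ≫ ·) (hσ i))).trans (pullback.lift_fst _ _ _)
    · show (pullback.lift v k h ≫ (σ i).hom) ≫ (σ i).inv ≫ pullback.snd _ _ = k
      rw [Category.assoc, Iso.hom_inv_id_assoc]
      exact pullback.lift_snd _ _ _
  · haveI : IsIso (σ i).inv := (σ i).isIso_inv
    rw [← cancel_mono (σ i).inv]
    refine pullback.hom_ext ?_ ?_
    · rw [Category.assoc, Category.assoc, hσ', hp]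
    · exact (Category.assoc _ _ _).trans (hπ.trans (Category.assoc _ _ _).symm)
  · have hx₀ : (w ≫ (L.p i).left) ≫ fam L i = x ≫ fam L j := by
      rw [Category.assoc, MorphismProperty.Over.w, h]
    let v : Desc.Lifts ((Desc.canonicalDDFam (fam L) A₀).obj i) (w ≫ (L.p i).left) :=
      ⟨w ≫ (σ i).inv, by show (w ≫ (σ i).inv) ≫ pullback.fst _ _ = _; rw [Category.assoc, hσ']⟩
    let v' : Desc.Lifts ((datum L).obj i) (w ≫ (L.p i).left) := ⟨w, rfl⟩
    have hcomm : g L w x h = ((Desc.canonicalDDFam (fam L) A₀).φ (w ≫ (L.p i).left) x hx₀ v).1 ≫ (σ j).hom :=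
      e.hom.comm (w ≫ (L.p i).left) x hx₀ v v' (by
        show w = (w ≫ (σ i).inv) ≫ (σ i).hom
        rw [Category.assoc, Iso.inv_hom_id, Category.comp_id])
    rw [hcomm]
    show (pullback.lift x ((w ≫ (σ i).inv) ≫ pullback.snd _ _) _ ≫ (σ j).hom) ≫ (σ j).inv ≫ pullback.snd _ _ = w ≫ (σ i).inv ≫ pullback.snd _ _
    rw [Category.assoc, Iso.hom_inv_id_assoc, pullback.lift_snd, Category.assoc]

end Groth.Agent.Et14
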