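import Groth.Agent.Et14.RepSets
import Groth.Agent.HenselLib.EtaleSplit

/-!
# Finite etale schemes give finite locally constant sheaves of sets
-/

set_option autoImplicit false
set_option backward.isDefEq.respectTransparency false
set_option backward.isDefEq.respectTransparency.types false

universe u

open CategoryTheory CategoryTheory.Limits AlgebraicGeometry Opposite

namespace Groth.Agent.Et14

/-- The base change of the trivial cover is a trivial cover. -/
theorem isIso_sheets {X U : Scheme.{u}} (g : U ⟶ X) (n : ℕ) :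
    IsIso (Limits.Sigma.desc fun j : Fin n => pullback.lift (f := trivHom X n) (g := g)
      (g ≫ Limits.Sigma.ι (fun _ : Fin n => X) j) (𝟙 U) (by simp [trivHom])) := by
  have hπ : IsIso (Limits.Sigma.desc fun j : Fin n => Limits.Sigma.ι (fun _ : Fin n => X) j) := by
    rw [show (Limits.Sigma.desc fun j : Fin n => Limits.Sigma.ι (fun _ : Fin n => X) j) = 𝟙 _ from
      Limits.Sigma.hom_ext _ _ fun j => by simp]
    infer_instance
  have h := FinitaryPreExtensive.isIso_sigmaDesc_fst (fun j : Fin n => Limits.Sigma.ι (fun _ : Fin n => X) j)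
    (pullback.fst (trivHom X n) g) hπ
  have key : ∀ j : Fin n, IsPullback
      (pullback.lift (f := trivHom X n) (g := g)
        (g ≫ Limits.Sigma.ι (fun _ : Fin n => X) j) (𝟙 U) (by simp [trivHom]))
      g (pullback.fst (trivHom X n) g) (Limits.Sigma.ι (fun _ : Fin n => X) j) := fun j => by
    refine IsPullback.of_right ?_ (pullback.lift_fst _ _ _) (IsPullback.of_hasPullback (trivHom X n) g).flip
    rw [pullback.lift_snd, show Limits.Sigma.ι (fun _ : Fin n => X) j ≫ trivHom X n = 𝟙 X from Limits.Sigma.ι_desc _ _]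
    exact IsPullback.of_horiz_isIso ⟨by simp⟩
  let φ : (∐ fun _ : Fin n => U) ⟶ (∐ fun j : Fin n => pullback (pullback.fst (trivHom X n) g)
      (Limits.Sigma.ι (fun _ : Fin n => X) j)) := (Limits.Sigma.mapIso fun j => (key j).isoPullback).hom
  have e : (Limits.Sigma.desc fun j : Fin n => pullback.lift (f := trivHom X n) (g := g)
      (g ≫ Limits.Sigma.ι (fun _ : Fin n => X) j) (𝟙 U) (by simp [trivHom])) =
      φ ≫ Limits.Sigma.desc fun j => pullback.fst _ _ := by
    refine Limits.Sigma.hom_ext _ _ fun j => ?_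
    simp [φ]
  rw [e]
  infer_instance

/-- A finite etale scheme is a trivial cover etale locally. -/
theorem exists_triv_iso {S X : Scheme.{u}} (f : X ⟶ S) [Etale f] [IsFinite f] (s : S) :
    ∃ (U : S.Etale) (_ : ∃ x : U.left, U.hom x = s) (n : ℕ)
      (e : pullback f U.hom ≅ pullback (trivHom S n) U.hom),
      e.hom ≫ pullback.snd (trivHom S n) U.hom = pullback.snd f U.hom := by
  obtain ⟨U, g, _, x, hx, n, V, c, hc, e, he⟩ := HenselLib.EtaleSplit.exists_etale_nhd_isos f s
  refine ⟨Scheme.Etale.mk g, ⟨x, hx⟩, n, ?_⟩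
  haveI := hc
  haveI := isIso_sheets g n
  let a : (∐ V) ≅ pullback (trivHom S n) g :=
    Limits.Sigma.mapIso (fun j => asIso (c j)) ≪≫ asIso (Limits.Sigma.desc fun j : Fin n =>
      pullback.lift (f := trivHom S n) (g := g) (g ≫ Limits.Sigma.ι (fun _ : Fin n => S) j) (𝟙 U) (by simp [trivHom]))
  refine ⟨e.symm ≪≫ a, ?_⟩
  show (e.inv ≫ a.hom) ≫ pullback.snd (trivHom S n) g = pullback.snd f g
  rw [Category.assoc, Iso.inv_comp_eq]
  refine Limits.Sigma.hom_ext _ _ fun j => ?_
  rw [he]
  simp [a]

theorem isFinLocConstSet_of_finite_etale (S X : Scheme.{u}) (f : X ⟶ S) [Etale f] [IsFinite f] :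
    CohProp.IsFinLocConstSet (EtDesc.repSh (Scheme.Etale.mk f)) := by
  choose U hU n e he using exists_triv_iso f
  exact isFinLocConstSet_of_triv (Scheme.Etale.mk f) S U (fun s => ⟨s, hU s⟩) fun s => ⟨n s, e s, he s⟩

end Groth.Agent.Et14
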