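import Groth.Prelude.Def_EtOpen
import Groth.Prelude.Def_CohProp
import Groth.Agent.FlatMor12.EtBridge.Rep
import Groth.Agent.Et18.PropAFaithful
import Mathlib.CategoryTheory.Extensive
import Mathlib.AlgebraicGeometry.Limits

/-!
# Constant sheaves of sets are represented by trivial covers; restriction of represented sheaves
-/

set_option autoImplicit false
set_option backward.isDefEq.respectTransparency false
set_option backward.isDefEq.respectTransparency.types false

universe u

open CategoryTheory CategoryTheory.Limits AlgebraicGeometry Opposite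
open Groth.Agent.FlatMor12.EtBridge

namespace Groth.Agent.Et14

variable (X : Scheme.{u}) (n : ℕ)

/-- The trivial cover with `n` sheets. -/
noncomputable abbrev trivHom : (∐ fun _ : Fin n => X) ⟶ X := Limits.Sigma.desc fun _ => 𝟙 X

instance : Etale (trivHom X n) := IsZariskiLocalAtSource.sigmaDesc (P := @Etale) fun _ => inferInstance

/-- The trivial cover as an etale scheme. -/
noncomputable abbrev triv : X.Etale := Scheme.Etale.mk (trivHom X n)

/-- The `m`-th sheet over an etale scheme. -/
noncomputable def sheet (U : X.Etale) (m : Fin n) : U ⟶ triv X n :=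
  MorphismProperty.Over.homMk (U.hom ≫ Limits.Sigma.ι (fun _ : Fin n => X) m) (by
    show (U.hom ≫ Limits.Sigma.ι (fun _ : Fin n => X) m) ≫ trivHom X n = U.hom
    exact (Category.assoc _ _ _).trans ((congrArg (U.hom ≫ ·) (Limits.Sigma.ι_desc (fun _ : Fin n => 𝟙 X) m)).trans (Category.comp_id U.hom)))

/-- The tautological map from the constant presheaf to the sheaf of the trivial cover. -/
noncomputable def trivMap : (Functor.const (X.Etale)ᵒᵖ).obj (ULift.{u + 1} (Fin n)) ⟶ (repS (triv X n)).obj where
  app U := ↾fun (m : ULift.{u + 1} (Fin n)) => (ULift.up (sheet X n U.unop m.down) : ULift.{u + 1} (U.unop ⟶ triv X n))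
  naturality U V g := by
    ext m
    refine ULift.ext _ _ (MorphismProperty.Over.Hom.ext ?_)
    show V.unop.hom ≫ _ = g.unop.left ≫ U.unop.hom ≫ _
    rw [← Category.assoc]
    exact congrArg (· ≫ _) (MorphismProperty.Over.w g.unop).symm

theorem eq_of_ι_eq {i j : Fin n} {a b : X} (h : Limits.Sigma.ι (fun _ : Fin n => X) i a = Limits.Sigma.ι (fun _ : Fin n => X) j b) :
    i = j := by
  by_contra hij
  exact Set.disjoint_left.1 (TopologicalSpace.Opens.coe_disjoint.2 (disjoint_opensRange_sigmaι (fun _ : Fin n => X) i j hij)) ⟨a, rfl⟩ ⟨b, h.symm⟩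

instance : Presheaf.IsLocallyInjective X.smallEtaleTopology (trivMap X n) where
  equalizerSieve_mem {U} a b h := by
    by_cases he : IsEmpty U.unop.left
    · exact Et18.mem_smallEtaleTopology_of_points _ fun x => (he.false x).elim
    · obtain ⟨x⟩ := not_isEmpty_iff.1 he
      have h' := congrArg (fun k : ULift.{u + 1} (U.unop ⟶ triv X n) => k.down.left x) h
      have hab : a = b := ULift.ext _ _ (eq_of_ι_eq X n h')
      subst hab
      rw [Presheaf.equalizerSieve_self_eq_top]
      exact GrothendieckTopology.top_mem _ _

instance : Presheaf.IsLocallySurjective X.smallEtaleTopology (trivMap X n) where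
  imageSieve_mem {U} (s : ULift.{u + 1} (U ⟶ triv X n)) := by
    refine Et18.mem_smallEtaleTopology_of_points _ fun x => ?_
    let k : U ⟶ triv X n := s.down
    obtain ⟨i, a, ha⟩ := (sigmaOpenCover fun _ : Fin n => X).exists_eq (k.left x)
    let ι' := Limits.Sigma.ι (fun _ : Fin n => X) i
    let O : U.left.Opens := k.left ⁻¹ᵁ ι'.opensRange
    let W : X.Etale := Scheme.Etale.mk (O.ι ≫ U.hom)
    let b : W ⟶ U := MorphismProperty.Over.homMk O.ι rfl
    refine ⟨W, b, ⟨x, ⟨a, ha⟩⟩, ⟨ULift.up i, ?_⟩, inferInstanceAs (Etale O.ι), rfl⟩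
    refine ULift.ext _ _ (MorphismProperty.Over.Hom.ext ?_)
    show (O.ι ≫ U.hom) ≫ ι' = O.ι ≫ k.left
    obtain ⟨l, hl⟩ : ∃ l, l ≫ ι' = O.ι ≫ k.left :=
      ⟨IsOpenImmersion.lift ι' (O.ι ≫ k.left) (by rintro _ ⟨y, rfl⟩; exact y.2), IsOpenImmersion.lift_fac _ _ _⟩
    have h1 : l = O.ι ≫ U.hom := by
      have hk : k.left ≫ trivHom X n = U.hom := MorphismProperty.Over.w k
      have hι : ι' ≫ trivHom X n = 𝟙 X := Limits.Sigma.ι_desc _ _
      rw [← hk, ← Category.assoc, ← hl, Category.assoc, hι, Category.comp_id]
    rw [← h1, hl]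

/-- The constant sheaf with `n` values is represented by the trivial cover with `n` sheets. -/
noncomputable def constTrivIso : CohProp.constSh X (ULift.{u + 1} (Fin n)) ≅ EtDesc.repSh (triv X n) :=
  haveI := (X.smallEtaleTopology.W_iff _).1 (X.smallEtaleTopology.W_of_isLocallyBijective (trivMap X n))
  asIso ((presheafToSheaf X.smallEtaleTopology (Type (u + 1))).map (trivMap X n))

variable {X}

/-- The sheafification of the represented presheaf is the represented sheaf. -/
noncomputable def repShIso (A : X.Etale) : EtDesc.repSh A ≅ repS A :=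
  (sheafificationIso (repS A)).symm

/-- Sections over schemes over `U` of represented sheaves only depend on the base change to `U`. -/
noncomputable def secEquiv {A B U : X.Etale} (e : pullback A.hom U.hom ≅ pullback B.hom U.hom)
    (he : e.hom ≫ pullback.snd B.hom U.hom = pullback.snd A.hom U.hom) (W : Over U) :
    (W.left ⟶ A) ≃ (W.left ⟶ B) :=
  let f : ∀ {A B : X.Etale} (e : pullback A.hom U.hom ⟶ pullback B.hom U.hom)
      (_ : e ≫ pullback.snd B.hom U.hom = pullback.snd A.hom U.hom), (W.left ⟶ A) → (W.left ⟶ B) := fun {A B} e he k =>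
    MorphismProperty.Over.homMk (pullback.lift k.left W.hom.left
      ((MorphismProperty.Over.w k).trans (MorphismProperty.Over.w W.hom).symm) ≫ e ≫ pullback.fst B.hom U.hom) (by
      rw [Category.assoc, Category.assoc, pullback.condition, reassoc_of% he, pullback.lift_snd_assoc]
      exact MorphismProperty.Over.w W.hom)
  { toFun := f e.hom he
    invFun := f e.inv (by rw [Iso.inv_comp_eq, he])
    left_inv := fun k => by
      refine MorphismProperty.Over.Hom.ext ?_
      have h : pullback.lift (pullback.lift k.left W.hom.left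
          ((MorphismProperty.Over.w k).trans (MorphismProperty.Over.w W.hom).symm) ≫ e.hom ≫ pullback.fst B.hom U.hom)
          W.hom.left ((MorphismProperty.Over.w (f e.hom he k)).trans (MorphismProperty.Over.w W.hom).symm) =
          pullback.lift k.left W.hom.left
            ((MorphismProperty.Over.w k).trans (MorphismProperty.Over.w W.hom).symm) ≫ e.hom := by
        apply pullback.hom_ext <;> simp [he]
      show pullback.lift (pullback.lift k.left W.hom.left _ ≫ e.hom ≫ pullback.fst B.hom U.hom) W.hom.left _ ≫ e.inv ≫ pullback.fst A.hom U.hom = k.left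
      rw [h]
      simp
    right_inv := fun k => by
      refine MorphismProperty.Over.Hom.ext ?_
      have he' : e.inv ≫ pullback.snd A.hom U.hom = pullback.snd B.hom U.hom := by rw [Iso.inv_comp_eq, he]
      have h : pullback.lift (pullback.lift k.left W.hom.left
          ((MorphismProperty.Over.w k).trans (MorphismProperty.Over.w W.hom).symm) ≫ e.inv ≫ pullback.fst A.hom U.hom)
          W.hom.left ((MorphismProperty.Over.w (f e.inv he' k)).trans (MorphismProperty.Over.w W.hom).symm) =
          pullback.lift k.left W.hom.left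
            ((MorphismProperty.Over.w k).trans (MorphismProperty.Over.w W.hom).symm) ≫ e.inv := by
        apply pullback.hom_ext <;> simp [he']
      show pullback.lift (pullback.lift k.left W.hom.left _ ≫ e.inv ≫ pullback.fst A.hom U.hom) W.hom.left _ ≫ e.hom ≫ pullback.fst B.hom U.hom = k.left
      rw [h]
      simp }

/-- Restrictions to `U` of represented sheaves with isomorphic base changes to `U` are isomorphic. -/
noncomputable def repSOverIso {A B U : X.Etale} (e : pullback A.hom U.hom ≅ pullback B.hom U.hom)
    (he : e.hom ≫ pullback.snd B.hom U.hom = pullback.snd A.hom U.hom) :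
    (repS A).over U ≅ (repS B).over U :=
  (sheafToPresheaf _ _).preimageIso (NatIso.ofComponents
    (fun W => Equiv.toIso (Equiv.ulift.trans ((secEquiv e he W.unop).trans Equiv.ulift.symm)))
    fun {W W'} g => by
      ext ⟨k⟩
      refine ULift.ext _ _ (MorphismProperty.Over.Hom.ext ?_)
      show pullback.lift (g.unop.left.left ≫ k.left) W'.unop.hom.left _ ≫ e.hom ≫ pullback.fst B.hom U.hom =
        g.unop.left.left ≫ pullback.lift k.left W.unop.hom.left _ ≫ e.hom ≫ pullback.fst B.hom U.hom
      rw [← Category.assoc g.unop.left.left]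
      congr 1
      apply pullback.hom_ext
      · simp
      · simp only [pullback.lift_snd, Category.assoc]
        exact (congrArg (fun t => t.left) (Over.w g.unop)).symm)

/-- Finite etale schemes give finite locally constant sheaves. -/
theorem isFinLocConstSet_of_triv (A : X.Etale) (ι : Type u) (U : ι → X.Etale) (hU : EtCoh.Covers U)
    (hA : ∀ i, ∃ (n : ℕ) (e : pullback A.hom (U i).hom ≅ pullback (trivHom X n) (U i).hom),
      e.hom ≫ pullback.snd (trivHom X n) (U i).hom = pullback.snd A.hom (U i).hom) :
    CohProp.IsFinLocConstSet (EtDesc.repSh A) := by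
  refine ⟨ι, U, hU, fun i => ?_⟩
  obtain ⟨n, e, he⟩ := hA i
  refine ⟨ULift.{u + 1} (Fin n), inferInstance, ⟨?_⟩⟩
  exact (X.smallEtaleTopology.overPullback _ (U i)).mapIso (repShIso A) ≪≫
    repSOverIso (A := A) (B := triv X n) e he ≪≫
    ((X.smallEtaleTopology.overPullback _ (U i)).mapIso (constTrivIso X n ≪≫ repShIso (triv X n))).symm

end Groth.Agent.Et14
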