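import Groth.Agent.Et14.Datum
import Groth.Agent.AlgSpLib.SheafCoprod2

/-!
# Finite locally constant sheaves of sets are represented by finite etale schemes
-/

set_option autoImplicit false
set_option backward.isDefEq.respectTransparency false
set_option backward.isDefEq.respectTransparency.types false

universe u

open CategoryTheory CategoryTheory.Limits AlgebraicGeometry Opposite
open Groth.Agent.FlatMor12.EtBridge

namespace Groth.Agent.Et14

variable {X : Scheme.{u}}

theorem isSheafFor_arrows (F : EtDesc.Sh X) {I : Type u} {Y : I → X.Etale} {T : X.Etale} (b : ∀ i, Y i ⟶ T)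
    (hb : ∀ t : T.left, ∃ (i : I) (y : (Y i).left), (b i).left y = t) :
    (Presieve.ofArrows Y b).IsSheafFor F.obj := by
  rw [Presieve.isSheafFor_iff_generate]
  refine (isSheaf_iff_isSheaf_of_type _ _).1 F.property _ ?_
  refine (Scheme.ofArrows_mem_smallEtaleTopology_iff _).2 (Set.eq_univ_of_forall fun t => ?_)
  obtain ⟨i, y, hy⟩ := hb t
  exact Set.mem_iUnion.2 ⟨i, y, hy⟩

variable {F : EtDesc.Sh X} (L : LocRep F)

include L in
theorem exists_iso : ∃ (A : X.Etale) (_ : IsFinite A.hom), Nonempty (F ≅ EtDesc.repSh A) := by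
  classical
  obtain ⟨A, hA, π, hlift, hext, hg⟩ := exists_descended L
  have hπcov : ∀ a : A.left, ∃ (i : L.ι) (y : (L.W i).left), (π i).left y = a := fun a => by
    obtain ⟨i, u, hu⟩ := L.covers (A.hom a)
    obtain ⟨w, -, hw⟩ := hlift (pullback (L.U i).hom A.hom) i (pullback.snd _ _) (pullback.fst _ _) pullback.condition
    obtain ⟨z, -, hz⟩ := Scheme.Pullback.exists_preimage_pullback (f := (L.U i).hom) (g := A.hom) u a hu
    exact ⟨i, w z, by rw [← Scheme.Hom.comp_apply, hw]; exact hz⟩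
  have hrel : ∀ (T : X.Etale) (i j : L.ι) (a : T ⟶ L.W i) (b : T ⟶ L.U j),
      (mkP L a b ≫ τ L i j) ≫ π j = a ≫ π i := fun T i j a b => MorphismProperty.Over.Hom.ext (by
    show (pullback.lift a.left b.left _ ≫ (τ L i j).left) ≫ (π j).left = a.left ≫ (π i).left
    exact hg T.left i j a.left b.left ((MorphismProperty.Over.w a).trans (MorphismProperty.Over.w b).symm))
  have hextE : ∀ (T : X.Etale) (i : L.ι) (w w' : T ⟶ L.W i), w ≫ L.p i = w' ≫ L.p i → w ≫ π i = w' ≫ π i → w = w' :=
    fun T i w w' h1 h2 => MorphismProperty.Over.Hom.ext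
      (hext T.left i w.left w'.left (congrArg (·.left) h1) (congrArg (·.left) h2))
  -- the section on `A`
  obtain ⟨α, hα, -⟩ := (Presieve.isSheafFor_arrows_iff _ _).1 (isSheafFor_arrows F π hπcov) L.ω
    (fun i j Z gi gj h => by
      have e : mkP L gi (gj ≫ L.p j) ≫ τ L i j = gj :=
        hextE Z j _ _ (mkP_τ_p L _ _) ((hrel Z i j gi (gj ≫ L.p j)).trans h)
      exact ((congrArg (fun k => F.obj.map k.op (L.ω j)) e).symm.trans (mkP_τ_ω L gi (gj ≫ L.p j))).symm)
  let app : ∀ T : X.Etale, ULift.{u + 1} (T ⟶ A) → F.obj.obj (op T) := fun T k => F.obj.map k.down.op α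
  have happ : ∀ T, Function.Bijective (app T) := by
    intro T
    let Y : L.ι → X.Etale := fun i => Scheme.Etale.mk (pullback.fst T.hom (L.U i).hom ≫ T.hom)
    let b : ∀ i, Y i ⟶ T := fun i => MorphismProperty.Over.homMk (pullback.fst T.hom (L.U i).hom) rfl
    let v : ∀ i, Y i ⟶ L.U i := fun i =>
      MorphismProperty.Over.homMk (pullback.snd T.hom (L.U i).hom) pullback.condition.symm
    have hb : ∀ t : T.left, ∃ (i : L.ι) (y : (Y i).left), (b i).left y = t := fun t => by
      obtain ⟨i, u, hu⟩ := L.covers (T.hom t)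
      obtain ⟨z, hz, -⟩ := Scheme.Pullback.exists_preimage_pullback (f := T.hom) (g := (L.U i).hom) t u hu.symm
      exact ⟨i, z, hz⟩
    have hR := (Presieve.isSheafFor_arrows_iff _ _).1 (isSheafFor_arrows (repS A) b hb)
    have hF := (Presieve.isSheafFor_arrows_iff _ _).1 (isSheafFor_arrows F b hb)
    have hlift' : ∀ (i : L.ι) (k : Y i ⟶ A), ∃ w : Y i ⟶ L.W i, w ≫ L.p i = v i ∧ w ≫ π i = k := fun i k => by
      obtain ⟨w, h1, h2⟩ := hlift (Y i).left i k.left (v i).left
        ((MorphismProperty.Over.w (v i)).trans (MorphismProperty.Over.w k).symm)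
      refine ⟨MorphismProperty.Over.homMk w ?_, MorphismProperty.Over.Hom.ext h1, MorphismProperty.Over.Hom.ext h2⟩
      rw [← MorphismProperty.Over.w (L.p i), ← Category.assoc, h1]
      exact MorphismProperty.Over.w (v i)
    have hω : ∀ (i : L.ι) (w : Y i ⟶ L.W i), F.obj.map w.op (L.ω i) = F.obj.map (w ≫ π i).op α := fun i w => by
      rw [map_comp', hα i]
    constructor
    · rintro ⟨k⟩ ⟨k'⟩ h
      obtain ⟨t, -, ht⟩ := hR (fun i => ⟨b i ≫ k⟩) (fun i j Z gi gj hg' => ULift.ext _ _ (by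
        show gi ≫ b i ≫ k = gj ≫ b j ≫ k
        rw [← Category.assoc, hg', Category.assoc]))
      refine (ht ⟨k⟩ fun i => rfl).trans (ht ⟨k'⟩ fun i => ULift.ext _ _ ?_).symm
      show b i ≫ k' = b i ≫ k
      obtain ⟨w, hw1, hw2⟩ := hlift' i (b i ≫ k)
      obtain ⟨w', hw1', hw2'⟩ := hlift' i (b i ≫ k')
      have : w = w' := L.hom_ext (hw1.trans hw1'.symm) (by
        rw [hω, hω, hw2, hw2', map_comp', map_comp']
        exact congrArg (F.obj.map (b i).op) h)
      rw [← hw2, ← hw2', this]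
    · intro s
      choose w hw1 hw2 using fun i => (L.spec i (Y i) (v i) (F.obj.map (b i).op s)).exists
      obtain ⟨k, hk, -⟩ := hR (fun i => ⟨w i ≫ π i⟩) (fun i j Z gi gj hg' => ULift.ext _ _ (by
        show gi ≫ w i ≫ π i = gj ≫ w j ≫ π j
        have e : mkP L (gi ≫ w i) (gj ≫ v j) ≫ τ L i j = gj ≫ w j := L.hom_ext
          (by rw [mkP_τ_p, Category.assoc, hw1 j])
          (by rw [mkP_τ_ω, map_comp', map_comp', hw2, hw2, ← map_comp', ← map_comp', hg'])
        rw [← Category.assoc gj, ← e, hrel, Category.assoc]))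
      refine ⟨k, ?_⟩
      obtain ⟨t, -, ht⟩ := hF (fun i => F.obj.map (b i).op s) (fun i j Z gi gj hg' => by rw [← map_comp', ← map_comp', hg'])
      refine (ht _ fun i => ?_).trans (ht s fun i => rfl).symm
      have e : b i ≫ k.down = w i ≫ π i := congrArg ULift.down (hk i)
      show F.obj.map (b i).op (F.obj.map k.down.op α) = F.obj.map (b i).op s
      rw [← map_comp', e, ← hω, hw2]
  haveI : ∀ T : (X.Etale)ᵒᵖ, IsIso ((ofSect (F := F) α).hom.app T) := fun T => by
    rw [isIso_iff_bijective]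
    exact happ T.unop
  haveI : IsIso (ofSect (F := F) α).hom := NatIso.isIso_of_isIso_app _
  haveI : IsIso (ofSect (F := F) α) := by
    refine @isIso_of_reflects_iso _ _ _ _ _ _ (ofSect (F := F) α) (sheafToPresheaf _ _) ?_ _
    exact inferInstanceAs (IsIso (ofSect (F := F) α).hom)
  exact ⟨A, hA, ⟨(asIso (ofSect (F := F) α)).symm ≪≫ (repShIso A).symm⟩⟩

/-- The local models of a finite locally constant sheaf of sets. -/
theorem nonempty_locRep (hF : CohProp.IsFinLocConstSet F) : Nonempty (LocRep F) := by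
  classical
  obtain ⟨ι, U, hU, hM⟩ := hF
  choose M hMfin hiso using hM
  have hψ : ∀ i, ∃ n : ℕ, Nonempty (F.over (U i) ≅ (repS (triv X n)).over (U i)) := fun i => by
    haveI := hMfin i
    refine ⟨Nat.card (M i), ⟨(hiso i).some ≪≫ (X.smallEtaleTopology.overPullback _ (U i)).mapIso
      ((constantSheaf X.smallEtaleTopology (Type (u + 1))).mapIso
        ((Finite.equivFin (M i)).trans Equiv.ulift.symm).toIso ≪≫ constTrivIso X _ ≪≫ repShIso _)⟩⟩
  choose n hn using hψ
  let ψ : ∀ i, F.over (U i) ≅ (repS (triv X (n i))).over (U i) := fun i => (hn i).some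
  let W : ι → X.Etale := fun i => Scheme.Etale.mk (pullback.snd (trivHom X (n i)) (U i).hom ≫ (U i).hom)
  let p : ∀ i, W i ⟶ U i := fun i => MorphismProperty.Over.homMk (pullback.snd (trivHom X (n i)) (U i).hom) rfl
  let k₀ : ∀ i, W i ⟶ triv X (n i) := fun i =>
    MorphismProperty.Over.homMk (pullback.fst (trivHom X (n i)) (U i).hom) pullback.condition
  let ω : ∀ i, F.obj.obj (op (W i)) := fun i => (ψ i).inv.hom.app (op (Over.mk (p i))) ⟨k₀ i⟩
  refine ⟨⟨ι, U, W, p, ω, hU, fun i => ?_, fun i T v s => ?_⟩⟩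
  · haveI : IsFinite (trivHom X (n i)) := AlgSpLib.isFinite_sigmaDesc _ fun _ => inferInstance
    exact inferInstanceAs (IsFinite (pullback.snd (trivHom X (n i)) (U i).hom))
  · let K : T ⟶ triv X (n i) := ((ψ i).hom.hom.app (op (Over.mk v)) s : ULift.{u + 1} (T ⟶ triv X (n i))).down
    have hnat : ∀ (k : T ⟶ W i) (hk : k ≫ p i = v), F.obj.map k.op (ω i) =
        (ψ i).inv.hom.app (op (Over.mk v)) (⟨k ≫ k₀ i⟩ : ULift.{u + 1} (T ⟶ triv X (n i))) := fun k hk =>
      (ConcreteCategory.congr_hom ((ψ i).inv.hom.naturality (Over.homMk k hk : Over.mk v ⟶ Over.mk (p i)).op)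
        (⟨k₀ i⟩ : ULift.{u + 1} (W i ⟶ triv X (n i)))).symm
    have hs : (ψ i).inv.hom.app (op (Over.mk v)) (⟨K⟩ : ULift.{u + 1} (T ⟶ triv X (n i))) = s :=
      ConcreteCategory.congr_hom (congrArg (fun a : F.over (U i) ⟶ F.over (U i) => a.hom.app (op (Over.mk v))) (ψ i).hom_inv_id) s
    let k : T ⟶ W i := MorphismProperty.Over.homMk (pullback.lift K.left v.left
      ((MorphismProperty.Over.w K).trans (MorphismProperty.Over.w v).symm))
      ((pullback.lift_snd_assoc _ _ _ _).trans (MorphismProperty.Over.w v))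
    have hk1 : k ≫ p i = v := MorphismProperty.Over.Hom.ext (pullback.lift_snd _ _ _)
    have hk2 : k ≫ k₀ i = K := MorphismProperty.Over.Hom.ext (pullback.lift_fst _ _ _)
    refine ⟨k, ⟨hk1, by rw [hnat k hk1, hk2, hs]⟩, fun k' ⟨h1, h2⟩ => ?_⟩
    rw [hnat k' h1] at h2
    have hbij : Function.Injective ((ψ i).inv.hom.app (op (Over.mk v))) :=
      ((isIso_iff_bijective _).1 (inferInstanceAs (IsIso (((sheafToPresheaf _ _).mapIso (ψ i)).symm.app (op (Over.mk v))).hom))).1
    have e : k' ≫ k₀ i = K := congrArg ULift.down (hbij (h2.trans hs.symm))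
    refine MorphismProperty.Over.Hom.ext (pullback.hom_ext ?_ ?_)
    · exact (congrArg (·.left) e).trans (congrArg (·.left) hk2).symm
    · exact (congrArg (·.left) h1).trans (congrArg (·.left) hk1).symm

theorem exists_iso_of_isFinLocConstSet (hF : CohProp.IsFinLocConstSet F) :
    ∃ (A : X.Etale) (_ : IsFinite A.hom), Nonempty (F ≅ EtDesc.repSh A) :=
  exists_iso (nonempty_locRep hF).some

end Groth.Agent.Et14
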